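import Mathlib

universe v

open CategoryTheory Limits

namespace Groth.Agent.W4cx.Split

variable {R : Type} [CommRing R]

open scoped ZeroObject in
/-- A zero object of an abelian category. -/
noncomputable abbrev zObj (C : Type*) [Category C] [Abelian C] : C := 0

theorem isZero_zObj (C : Type*) [Category C] [Abelian C] : IsZero (zObj C) := isZero_zero C

/-- An acyclic chain complex of projectives indexed by `ℕ` is contractible. -/
noncomputable def contraction {C : Type*} [Category C] [Abelian C] (Q : ChainComplex C ℕ)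
    [∀ n, Projective (Q.X n)] (hQ : Q.Acyclic) : Homotopy (𝟙 Q) 0 :=
  let P : ProjectiveResolution (zObj C) :=
    { complex := Q
      π := 0
      projective := inferInstance
      quasiIso := ⟨fun i => by
        rw [quasiIsoAt_iff_exactAt _ i (hQ i)]
        rw [HomologicalComplex.exactAt_iff_isZero_homology]
        exact (HomologicalComplex.homologyFunctor C _ i).map_isZero
          ((ChainComplex.single₀ C).map_isZero (isZero_zObj C))⟩ }
  ProjectiveResolution.liftHomotopyZero (P := P) (Q := P) (𝟙 Q) comp_zero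

theorem id_eq_nullHomotopicMap {C : Type*} [Category C] [Abelian C] {Q : ChainComplex C ℕ}
    (k : Homotopy (𝟙 Q) 0) : 𝟙 Q = Homotopy.nullHomotopicMap k.hom := by
  ext i
  simp [Homotopy.nullHomotopicMap, ← HomologicalComplex.id_f, k.comm]

theorem free_projective {R : Type} [CommRing R] (M : ModuleCat.{v} R) [Module.Free R M] :
    Projective M :=
  (IsProjective.iff_projective (R := R) M).mp Module.Projective.of_free

theorem exists_section {C : Type*} [Category C] [Abelian C]
    {S : ShortComplex (ChainComplex C ℕ)} (hS : S.ShortExact) (hq : QuasiIso S.f)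
    [∀ n, Projective (S.X₃.X n)] :
    ∃ h : S.X₃ ⟶ S.X₂, h ≫ S.g = 𝟙 _ := by
  have := hS.epi_g
  let k := contraction S.X₃ (hS.acyclic_X₃ hq)
  have hepi : ∀ n, Epi (S.g.f n) := fun n => by
    infer_instance
  let σ : ∀ n, S.X₃.X n ⟶ S.X₂.X n := fun n => Projective.factorThru (𝟙 _) (S.g.f n)
  refine ⟨Homotopy.nullHomotopicMap fun i j => k.hom i j ≫ σ j, ?_⟩
  rw [Homotopy.nullHomotopicMap_comp]
  have : (fun i j => (k.hom i j ≫ σ j) ≫ S.g.f j) = k.hom := by
    funext i j
    simp [σ]
  rw [this, ← id_eq_nullHomotopicMap k]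

theorem projective_cokernel_X {R : Type} [CommRing R] {A' A : ChainComplex (ModuleCat.{v} R) ℕ}
    (f : A' ⟶ A) (hq : ∀ q, Module.Free R ((A.X q) ⧸ LinearMap.range (f.f q).hom)) (n : ℕ) :
    Projective ((cokernel f).X n) := by
  let e : (cokernel f).X n ≅ ModuleCat.of R ((A.X n) ⧸ LinearMap.range (f.f n).hom) :=
    PreservesCokernel.iso (HomologicalComplex.eval _ _ n) f ≪≫
      ModuleCat.cokernelIsoRangeQuotient (f.f n)
  have := hq n
  exact Projective.of_iso e.symm (free_projective _)

theorem mono_of_injective {R : Type} [CommRing R] {A' A : ChainComplex (ModuleCat.{v} R) ℕ}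
    (f : A' ⟶ A) (hf : ∀ q, Function.Injective (f.f q).hom) : Mono f := by
  have : ∀ q, Mono (f.f q) := fun q => (ModuleCat.mono_iff_injective _).mpr (hf q)
  exact HomologicalComplex.mono_of_mono_f f this

theorem shortExact_cokernel {C : Type*} [Category C] [Abelian C] {A' A : C} (f : A' ⟶ A)
    [Mono f] : (ShortComplex.mk f (cokernel.π f) (cokernel.condition f)).ShortExact :=
  { exact := ShortComplex.exact_of_g_is_cokernel _ (cokernelIsCokernel f) }

theorem free_quotient_int {M : Type v} [AddCommGroup M] [Module ℤ M] (N : Submodule ℤ M)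
    (h : @Module.Free ℤ (M ⧸ N) _ _ (AddCommGroup.toIntModule (M ⧸ N))) :
    @Module.Free ℤ (M ⧸ N) _ _ (Submodule.Quotient.module N) := by
  have e : AddCommGroup.toIntModule (M ⧸ N) = Submodule.Quotient.module N :=
    @Subsingleton.elim _ AddCommGroup.uniqueIntModule.instSubsingleton _ _
  exact e ▸ h

end Groth.Agent.W4cx.Split
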